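import Groth.Agent.Lib.SmoothDesc.Ring
import Mathlib.AlgebraicGeometry.Morphisms.Smooth
import Mathlib.AlgebraicGeometry.Morphisms.Flat
import Mathlib.AlgebraicGeometry.Morphisms.FinitePresentation
import Mathlib.AlgebraicGeometry.Limits
import Mathlib.AlgebraicGeometry.Morphisms.Finite
import Mathlib.AlgebraicGeometry.Morphisms.UniversallyOpen
import Mathlib.RingTheory.RingHom.FaithfullyFlat

/-!
# Smoothness descends along fppf maps of the source
-/

universe u

open CategoryTheory CategoryTheory.Limits AlgebraicGeometry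

namespace Groth.Agent.Lib.SmoothDesc.Scheme

set_option linter.style.haveILetI false
set_option backward.isDefEq.respectTransparency false

theorem exists_affine_cover {X' X Y : Scheme.{u}} (e : X' ⟶ X) (f : X ⟶ Y) [Surjective e] [Flat e]
    [LocallyOfFinitePresentation e] [Smooth (e ≫ f)] (V : X.affineOpens) :
    ∃ (T : Scheme.{u}) (t : T ⟶ (V : X.Opens)) (_ : IsAffine T) (_ : Flat t) (_ : Surjective t),
      Smooth (t ≫ (V : X.Opens).ι ≫ f) := by
  let e' := e ∣_ (V : X.Opens)
  have : Surjective e' := IsZariskiLocalAtTarget.restrict ‹Surjective e› _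
  have : Flat e' := IsZariskiLocalAtTarget.restrict ‹Flat e› _
  have : LocallyOfFinitePresentation e' :=
    IsZariskiLocalAtTarget.restrict ‹LocallyOfFinitePresentation e› _
  have : UniversallyOpen e' := inferInstance
  have hopen : IsOpenMap e' := e'.isOpenMap
  let W := (e ⁻¹ᵁ (V : X.Opens) : Scheme.{u})
  have hV : IsCompact (Set.univ : Set ↥((V : X.Opens) : Scheme.{u})) := by
    have : IsAffine (V : X.Opens) := V.2
    exact isCompact_univ
  obtain ⟨s, hs⟩ := hV.elim_finite_subcover (fun w : W.affineOpens ↦ e' '' (w : W.Opens))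
    (fun w ↦ hopen _ w.1.2) (by
      intro v _
      obtain ⟨x, rfl⟩ := e'.surjective v
      obtain ⟨_, ⟨w, hw, rfl⟩, hx, -⟩ :=
        W.isBasis_affineOpens.exists_subset_of_mem_open (Set.mem_univ x) isOpen_univ
      exact Set.mem_iUnion.mpr ⟨⟨w, hw⟩, x, hx, rfl⟩)
  let T₀ : Scheme.{u} := ∐ fun w : s ↦ ((w.1 : W.Opens) : Scheme.{u})
  let t₀ : T₀ ⟶ W := Sigma.desc fun w ↦ (w.1 : W.Opens).ι
  have hw : ∀ w : s, IsAffine ((w.1 : W.Opens) : Scheme.{u}) := fun w ↦ w.1.2
  have hsm : Smooth t₀ := IsZariskiLocalAtSource.sigmaDesc (P := @Smooth) fun w ↦ inferInstance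
  refine ⟨T₀, t₀ ≫ e', inferInstance, inferInstance, ⟨fun v ↦ ?_⟩, ?_⟩
  · obtain ⟨w, hws, x, hx, rfl⟩ := Set.mem_iUnion₂.mp (hs (Set.mem_univ v))
    refine ⟨Sigma.ι (fun w : s ↦ ((w.1 : W.Opens) : Scheme.{u})) ⟨w, hws⟩ ⟨x, hx⟩, ?_⟩
    have key : Sigma.ι (fun w : s ↦ ((w.1 : W.Opens) : Scheme.{u})) ⟨w, hws⟩ ≫ t₀ ≫ e' =
        (w : W.Opens).ι ≫ e' := by simp [t₀]
    exact congr($key ⟨x, hx⟩)
  · have : Smooth ((t₀ ≫ (e ⁻¹ᵁ (V : X.Opens)).ι) ≫ e ≫ f) := inferInstance
    simpa [e', morphismRestrict_ι_assoc] using this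

/-- Smoothness descends along fppf covers of the source (given finite presentation). -/
theorem smooth_of_comp {X' X Y : Scheme.{u}} (e : X' ⟶ X) (f : X ⟶ Y) [Surjective e] [Flat e]
    [LocallyOfFinitePresentation e] [Smooth (e ≫ f)] [LocallyOfFinitePresentation f] :
    Smooth f := by
  rw [HasRingHomProperty.iff_appLE (P := @Smooth)]
  intro U V i
  obtain ⟨T, t, _, _, _, hT⟩ := exists_affine_cover e f V
  have : IsAffine (V : X.Opens) := V.2
  have : IsAffine (U : Y.Opens) := U.2
  have hT' : Smooth (t ≫ f.resLE U V i) := by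
    have sq : IsPullback (𝟙 T) (t ≫ f.resLE U V i) ((t ≫ f.resLE U V i) ≫ (U : Y.Opens).ι)
        (U : Y.Opens).ι :=
      ⟨⟨by simp⟩, ⟨PullbackCone.IsLimit.mk _ (fun s ↦ s.fst) (fun s ↦ by simp)
        (fun s ↦ by
          refine (cancel_mono (U : Y.Opens).ι).mp ?_
          simpa only [Category.assoc] using s.condition)
        (fun s m h₁ _ ↦ by simpa using h₁)⟩⟩
    refine IsZariskiLocalAtTarget.of_isPullback sq ?_
    rwa [Category.assoc, Scheme.Hom.resLE_comp_ι]
  have hlfp : LocallyOfFinitePresentation (f.resLE U V i) := inferInstance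
  have hq : Smooth (f.resLE U V i) := by
    rw [HasRingHomProperty.iff_of_isAffine (P := @Smooth)] at hT' ⊢
    rw [HasRingHomProperty.iff_of_isAffine (P := @LocallyOfFinitePresentation)] at hlfp
    rw [Scheme.Hom.comp_appTop, CommRingCat.hom_comp] at hT'
    have hff := (Flat.flat_and_surjective_iff_faithfullyFlat_of_isAffine (f := t)).mp
      ⟨inferInstance, inferInstance⟩
    revert hT' hlfp hff
    generalize (f.resLE U V i).appTop.hom = φ
    generalize t.appTop.hom = ψ
    intro hT' hlfp hff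
    algebraize [φ, ψ, ψ.comp φ]
    exact RingHom.smooth_algebraMap.mpr (Ring.smooth_of_comp _ _ Γ(T, ⊤))
  have hiso := (HasRingHomProperty.isLocal_ringHomProperty @Smooth).respectsIso
  rw [HasRingHomProperty.iff_of_isAffine (P := @Smooth), Scheme.Hom.appTop,
    Scheme.Hom.resLE_app_top, CommRingCat.hom_comp, hiso.cancel_left_isIso, CommRingCat.hom_comp,
    hiso.cancel_right_isIso] at hq
  exact hq

/-- Finite presentation descends along finite locally free covers of the source. -/
theorem locallyOfFinitePresentation_of_comp {X' X Y : Scheme.{u}} (e : X' ⟶ X) (f : X ⟶ Y)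
    [Surjective e] [IsFinite e] [Flat e] [LocallyOfFinitePresentation e]
    [LocallyOfFinitePresentation (e ≫ f)] : LocallyOfFinitePresentation f := by
  rw [HasRingHomProperty.iff_appLE (P := @LocallyOfFinitePresentation)]
  intro U V i
  let W : X'.affineOpens := ⟨e ⁻¹ᵁ V.1, V.2.preimage e⟩
  have i' : W.1 ≤ (e ≫ f) ⁻¹ᵁ U.1 := by
    rw [Scheme.Hom.comp_preimage]
    exact e.preimage_mono i
  have hAC := (HasRingHomProperty.iff_appLE (P := @LocallyOfFinitePresentation)).mp
    ‹LocallyOfFinitePresentation (e ≫ f)› U W i'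
  rw [← Scheme.Hom.appLE_comp_appLE e f U.1 V.1 W.1 i le_rfl, ← Scheme.Hom.app_eq_appLE,
    CommRingCat.hom_comp] at hAC
  haveI : IsAffine (V.1 : X.Opens) := V.2
  haveI : IsAffine (W.1 : X'.Opens) := W.2
  have hfin : (e.app V.1).hom.Finite := e.finite_app V.1 V.2
  have hfl : (e.app V.1).hom.Flat := by
    have := HasRingHomProperty.appLE @Flat e inferInstance V W le_rfl
    rwa [← Scheme.Hom.app_eq_appLE] at this
  have hfp : (e.app V.1).hom.FinitePresentation := by
    have := HasRingHomProperty.appLE @LocallyOfFinitePresentation e inferInstance V W le_rfl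
    rwa [← Scheme.Hom.app_eq_appLE] at this
  have hsurj : Function.Surjective (PrimeSpectrum.comap (e.app V.1).hom) := by
    intro p
    haveI := V.2.isOpenImmersion_fromSpec
    obtain ⟨x', hx'⟩ := e.surjective (V.2.fromSpec p)
    have hxW : x' ∈ W.1 := by
      show e x' ∈ V.1
      rw [hx', ← SetLike.mem_coe, ← V.2.range_fromSpec]; exact ⟨p, rfl⟩
    rw [← SetLike.mem_coe, ← W.2.range_fromSpec] at hxW
    obtain ⟨q, hq⟩ := hxW
    refine ⟨q, V.2.fromSpec.isOpenEmbedding.injective ?_⟩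
    rw [← hx', ← hq]
    have := W.2
    have h := IsAffineOpen.SpecMap_appLE_fromSpec e V.2 W.2 le_rfl
    rw [← Scheme.Hom.app_eq_appLE] at h
    exact congr($h q)
  revert hAC hfin hfl hfp hsurj
  generalize (f.appLE U.1 V.1 i).hom = φ
  generalize (e.app V.1).hom = ψ
  intro hAC hfin hfl hfp hsurj
  algebraize [φ, ψ, ψ.comp φ]
  haveI : Module.FinitePresentation Γ(X, V.1) Γ(X', W.1) :=
    Module.FinitePresentation.of_finite_of_finitePresentation _ _
  haveI : Module.Projective Γ(X, V.1) Γ(X', W.1) := Module.Flat.projective_of_finitePresentation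
  haveI : Module.FaithfullyFlat Γ(X, V.1) Γ(X', W.1) := .of_comap_surjective hsurj
  obtain ⟨s, hs⟩ := Ring.exists_retraction Γ(X, V.1) Γ(X', W.1)
  haveI := Ring.finiteType_of_comp_finite Γ(Y, U.1) Γ(X, V.1) Γ(X', W.1) s hs
  exact RingHom.finitePresentation_algebraMap.mpr
    (Ring.finitePresentation_of_comp_finite Γ(Y, U.1) Γ(X, V.1) Γ(X', W.1) s hs)

end Groth.Agent.Lib.SmoothDesc.Scheme
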