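import Mathlib.RingTheory.Smooth.Fiber
import Groth.Agent.Lib.SourceDescent.Ring
import Groth.Agent.Lib.Regular.Descent
import Groth.Agent.Lib.JacCrit.Regular
import Groth.Agent.Lib.JacCrit.RegularOfSmooth
import Mathlib.RingTheory.Finiteness.ModuleFinitePresentation
import Mathlib.RingTheory.Smooth.Field
import Mathlib.FieldTheory.IsAlgClosed.AlgebraicClosure

/-!
# Smoothness descends along faithfully flat maps of the source
-/

universe u

open TensorProduct

namespace Groth.Agent.Lib.SmoothDesc.Ring

set_option linter.style.haveILetI false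

theorem faithfullyFlat_map (A D B C : Type u) [CommRing A] [CommRing D] [CommRing B] [CommRing C]
    [Algebra A D] [Algebra A B] [Algebra A C] [Algebra B C] [IsScalarTower A B C]
    [Module.FaithfullyFlat B C] :
    (Algebra.TensorProduct.map (AlgHom.id A D) (IsScalarTower.toAlgHom A B C)).toRingHom.FaithfullyFlat := by
  letI : Algebra (D ⊗[A] B) (D ⊗[A] C) :=
    (Algebra.TensorProduct.map (AlgHom.id A D) (IsScalarTower.toAlgHom A B C)).toRingHom.toAlgebra
  letI : Algebra B (D ⊗[A] B) := Algebra.TensorProduct.rightAlgebra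
  let e : (D ⊗[A] B) ⊗[B] C ≃ₐ[D ⊗[A] B] D ⊗[A] C :=
    AlgEquiv.ofRingEquiv (f := ((Algebra.TensorProduct.comm B (D ⊗[A] B) C).toRingEquiv.trans
      ((Algebra.TensorProduct.congr (.refl : C ≃ₐ[B] C)
        ({ __ := Algebra.TensorProduct.comm A D B, commutes' := fun _ => rfl } :
          D ⊗[A] B ≃ₐ[B] B ⊗[A] D)).toRingEquiv.trans
      ((Algebra.TensorProduct.cancelBaseChange A B B C D).toRingEquiv.trans
        (Algebra.TensorProduct.comm A C D).toRingEquiv)))) fun x => by
      induction x with
      | zero => simp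
      | tmul a b =>
        show Algebra.TensorProduct.comm A C D ((Algebra.TensorProduct.cancelBaseChange A B B C D)
          ((1 : C) ⊗ₜ[B] (b ⊗ₜ[A] a))) = a ⊗ₜ[A] algebraMap B C b
        simp [Algebra.smul_def]
      | add x y hx hy => simp only [map_add, hx, hy]
  haveI : Module.FaithfullyFlat (D ⊗[A] B) ((D ⊗[A] B) ⊗[B] C) := inferInstance
  exact Module.FaithfullyFlat.of_linearEquiv _ _ e.symm.toLinearEquiv

theorem smooth_of_field_isAlgClosed (K F G : Type u) [Field K] [IsAlgClosed K] [CommRing F]
    [CommRing G] [Algebra K F] [Algebra K G] [Algebra F G] [IsScalarTower K F G]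
    [Algebra.FinitePresentation K F] [Module.FaithfullyFlat F G] [Algebra.Smooth K G] :
    Algebra.Smooth K F := by
  refine ⟨Algebra.smoothLocus_eq_univ_iff.mp (Set.eq_univ_iff_forall.mpr fun Q => ?_), ‹_›⟩
  obtain ⟨Q', hQ'⟩ := PrimeSpectrum.comap_surjective_of_faithfullyFlat (A := F) (B := G) Q
  haveI : Algebra.IsSmoothAt K Q'.asIdeal := by
    have hG : Algebra.FormallySmooth K G := inferInstance
    have := Algebra.smoothLocus_eq_univ_iff.mpr hG
    exact (this ▸ Set.mem_univ Q' : Q' ∈ Algebra.smoothLocus K G)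
  haveI : IsRegularLocalRing (Localization.AtPrime Q'.asIdeal) :=
    JacCrit.RegularOfSmooth.isRegularLocalRing K Q'.asIdeal
  haveI : Q'.asIdeal.LiesOver Q.asIdeal := ⟨(congrArg PrimeSpectrum.asIdeal hQ').symm⟩
  letI := Localization.AtPrime.algebraOfLiesOver Q.asIdeal Q'.asIdeal
  haveI : IsNoetherianRing F := Algebra.FiniteType.isNoetherianRing K F
  haveI : IsRegularLocalRing (Localization.AtPrime Q.asIdeal) :=
    Regular.Descent.isRegularLocalRing_of_flat (R := Localization.AtPrime Q.asIdeal)
      (Localization.AtPrime Q'.asIdeal)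
  haveI : Algebra.EssFiniteType K Q.asIdeal.ResidueField :=
    .comp K F Q.asIdeal.ResidueField
  haveI : Algebra.FormallySmooth K Q.asIdeal.ResidueField :=
    Algebra.FormallySmooth.of_perfectField
  exact JacCrit.Regular.isSmoothAt K Q.asIdeal

theorem smooth_of_field (k F G : Type u) [Field k] [CommRing F] [CommRing G] [Algebra k F]
    [Algebra k G] [Algebra F G] [IsScalarTower k F G] [Algebra.FinitePresentation k F]
    [Module.FaithfullyFlat F G] [Algebra.Smooth k G] : Algebra.Smooth k F := by
  let K := AlgebraicClosure k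
  let ψ := Algebra.TensorProduct.map (AlgHom.id K K) (IsScalarTower.toAlgHom k F G)
  letI : Algebra (K ⊗[k] F) (K ⊗[k] G) := ψ.toRingHom.toAlgebra
  haveI : IsScalarTower K (K ⊗[k] F) (K ⊗[k] G) :=
    IsScalarTower.of_algebraMap_eq fun x => (ψ.commutes x).symm
  haveI : Module.FaithfullyFlat (K ⊗[k] F) (K ⊗[k] G) := faithfullyFlat_map k K F G
  haveI : Algebra.Smooth K (K ⊗[k] F) := smooth_of_field_isAlgClosed K (K ⊗[k] F) (K ⊗[k] G)
  exact .of_smooth_tensorProduct_of_faithfullyFlat K

/-- Smoothness descends along a faithfully flat map of the source. -/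
theorem smooth_of_comp (A B C : Type u) [CommRing A] [CommRing B] [CommRing C] [Algebra A B]
    [Algebra B C] [Algebra A C] [IsScalarTower A B C] [Algebra.FinitePresentation A B]
    [Module.FaithfullyFlat B C] [Algebra.Smooth A C] : Algebra.Smooth A B := by
  haveI : Module.Flat A B := SourceDescent.Ring.flat_of_comp A B C
  refine Algebra.Smooth.of_formallySmooth_fiber fun I _ => ?_
  let κ := I.ResidueField
  let ψ := Algebra.TensorProduct.map (AlgHom.id κ κ) (IsScalarTower.toAlgHom A B C)
  letI : Algebra (κ ⊗[A] B) (κ ⊗[A] C) := ψ.toRingHom.toAlgebra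
  haveI : IsScalarTower κ (κ ⊗[A] B) (κ ⊗[A] C) :=
    IsScalarTower.of_algebraMap_eq fun x => (ψ.commutes x).symm
  haveI : Module.FaithfullyFlat (κ ⊗[A] B) (κ ⊗[A] C) := faithfullyFlat_map A κ B C
  exact (smooth_of_field κ (κ ⊗[A] B) (κ ⊗[A] C)).1

/-- Finite presentation descends along a finitely presented module-faithfully-flat source map. -/
theorem finitePresentation_of_comp_finite (A B C : Type u) [CommRing A] [CommRing B] [CommRing C]
    [Algebra A B] [Algebra B C] [Algebra A C] [IsScalarTower A B C] [Module.Finite B C]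
    [Algebra.FiniteType A B] (s : C →ₗ[B] B) (hs : s 1 = 1) [Algebra.FinitePresentation A C] :
    Algebra.FinitePresentation A B := by
  obtain ⟨n, f, hf⟩ := Algebra.FiniteType.iff_quotient_mvPolynomial''.mp
    (inferInstance : Algebra.FiniteType A B)
  let P := MvPolynomial (Fin n) A
  letI := f.toRingHom.toAlgebra
  letI : Algebra P C := ((algebraMap B C).comp f.toRingHom).toAlgebra
  haveI : IsScalarTower P B C := .of_algebraMap_eq' rfl
  haveI : IsScalarTower A P B := .of_algebraMap_eq fun r => (f.commutes r).symm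
  haveI : IsScalarTower A P C := .of_algebraMap_eq fun r => by
    rw [IsScalarTower.algebraMap_apply A B C, ← f.commutes r]; rfl
  haveI : Module.Finite P B := Module.Finite.of_surjective (Algebra.linearMap P B) hf
  haveI : Module.Finite P C := Module.Finite.trans B C
  haveI : Algebra.FinitePresentation P C :=
    Algebra.FinitePresentation.of_restrict_scalars_finitePresentation A P C
  haveI : Module.FinitePresentation P C :=
    Module.FinitePresentation.of_finite_of_finitePresentation _ _
  have hsi : ∀ b : B, s (algebraMap B C b) = b := fun b => by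
    rw [Algebra.algebraMap_eq_smul_one, map_smul, hs, smul_eq_mul, mul_one]
  let s' : C →ₗ[P] B := s.restrictScalars P
  have hker : LinearMap.ker s' =
      LinearMap.range (LinearMap.id - ((Algebra.linearMap B C).restrictScalars P).comp s') := by
    ext x
    constructor
    · intro hx
      exact ⟨x, by simp [show s x = 0 from hx, s']⟩
    · rintro ⟨y, rfl⟩
      show s (y - algebraMap B C (s y)) = 0
      rw [map_sub, hsi, sub_self]
  haveI : Module.FinitePresentation P B := Module.finitePresentation_of_surjective s'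
    (fun b => ⟨algebraMap B C b, hsi b⟩) (by rw [hker]; exact (Module.Finite.iff_fg.mp inferInstance))
  refine .of_surjective hf ?_
  exact Module.FinitePresentation.fg_ker (Algebra.linearMap P B) hf

/-- A finite projective faithfully flat algebra is split. -/
theorem exists_retraction (B C : Type u) [CommRing B] [CommRing C] [Algebra B C]
    [Module.Projective B C] [Module.FaithfullyFlat B C] : ∃ s : C →ₗ[B] B, s 1 = 1 := by
  let J : Ideal B := LinearMap.range (LinearMap.applyₗ (1 : C) : Module.Dual B C →ₗ[B] B)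
  have hJ : J = ⊤ := by
    by_contra h
    obtain ⟨m, hm, hle⟩ := Ideal.exists_le_maximal J h
    obtain ⟨s, hs⟩ := (Module.projective_def').mp ‹Module.Projective B C›
    have h1 : (1 : C) = Finsupp.linearCombination B id (s 1) := (LinearMap.congr_fun hs 1).symm
    have hmem : (1 : C) ∈ m.map (algebraMap B C) := by
      rw [h1, Finsupp.linearCombination_apply]
      refine Submodule.sum_mem _ fun c _ => ?_
      simp only [Algebra.smul_def]
      refine Ideal.mul_mem_right _ _ (Ideal.mem_map_of_mem _ (hle ?_))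
      exact ⟨(Finsupp.lapply c).comp s, rfl⟩
    have h2 := Ideal.comap_map_eq_self_of_faithfullyFlat (B := C) m
    rw [(Ideal.eq_top_iff_one _).mpr hmem, Ideal.comap_top] at h2
    exact hm.ne_top h2.symm
  obtain ⟨s, hs⟩ := (show (1 : B) ∈ J from hJ ▸ Submodule.mem_top)
  exact ⟨s, hs⟩

/-- Finite type descends along a split finite source map. -/
theorem finiteType_of_comp_finite (A B C : Type u) [CommRing A] [CommRing B] [CommRing C]
    [Algebra A B] [Algebra B C] [Algebra A C] [IsScalarTower A B C] [Module.Finite B C]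
    (s : C →ₗ[B] B) (hs : s 1 = 1) [Algebra.FiniteType A C] : Algebra.FiniteType A B := by
  classical
  obtain ⟨G, hG⟩ := Algebra.FiniteType.out (R := A) (A := C)
  obtain ⟨n, c, hc⟩ := Module.Finite.exists_fin (R := B) (M := C)
  have hmem : ∀ z : C, ∃ β : Fin n → B, ∑ i, β i • c i = z := fun z =>
    (Submodule.mem_span_range_iff_exists_fun B).mp (hc ▸ Submodule.mem_top)
  choose β hβ using hmem
  let W : Set B := (⋃ g : G, Set.range (β g.1)) ∪ (⋃ i, ⋃ j, Set.range (β (c i * c j))) ∪
    Set.range (β 1) ∪ Set.range (fun i => s (c i))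
  have hW : W.Finite := (((Set.finite_iUnion fun g => Set.finite_range _).union
    (Set.finite_iUnion fun i => Set.finite_iUnion fun j => Set.finite_range _)).union
    (Set.finite_range _)).union (Set.finite_range _)
  refine ⟨⟨hW.toFinset, ?_⟩⟩
  rw [Set.Finite.coe_toFinset]
  let B₀ := Algebra.adjoin A W
  have hβW : ∀ {z : C}, Set.range (β z) ⊆ W → ∀ i, β z i ∈ B₀ := fun h i =>
    Algebra.subset_adjoin (h ⟨i, rfl⟩)
  have key : ∀ z : C, ∃ γ : Fin n → B₀, ∑ i, (γ i : B) • c i = z := by
    intro z
    have hz : z ∈ Algebra.adjoin A (G : Set C) := by rw [hG]; trivial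
    induction hz using Algebra.adjoin_induction with
    | mem x hx =>
      exact ⟨fun i => ⟨β x i, hβW (fun b hb => Or.inl (Or.inl (Or.inl
        (Set.mem_iUnion.mpr ⟨⟨x, hx⟩, hb⟩)))) i⟩, hβ x⟩
    | algebraMap r =>
      refine ⟨fun i => algebraMap A B₀ r * ⟨β 1 i, hβW (fun b hb => Or.inl (Or.inr hb)) i⟩, ?_⟩
      simp only [Subalgebra.coe_mul, mul_smul, ← Finset.smul_sum, hβ]
      rw [Algebra.smul_def, mul_one]
      exact (IsScalarTower.algebraMap_apply A B C r).symm
    | add x y _ _ hx hy =>
      obtain ⟨γ, rfl⟩ := hx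
      obtain ⟨δ, rfl⟩ := hy
      exact ⟨γ + δ, by simp [add_smul, Finset.sum_add_distrib]⟩
    | mul x y _ _ hx hy =>
      obtain ⟨γ, rfl⟩ := hx
      obtain ⟨δ, rfl⟩ := hy
      refine ⟨fun l => ∑ i, ∑ j, γ i * δ j * ⟨β (c i * c j) l,
        hβW (fun b hb => Or.inl (Or.inl (Or.inr (Set.mem_iUnion.mpr ⟨i, Set.mem_iUnion.mpr ⟨j, hb⟩⟩)))) l⟩, ?_⟩
      simp only [AddSubmonoidClass.coe_finsetSum, Subalgebra.coe_mul, Finset.sum_smul]
      rw [Finset.sum_comm, Finset.sum_mul]
      refine Finset.sum_congr rfl fun i _ => ?_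
      rw [Finset.sum_comm, Finset.mul_sum]
      refine Finset.sum_congr rfl fun j _ => ?_
      simp only [mul_smul, ← Finset.smul_sum, hβ, smul_mul_smul_comm]
  refine eq_top_iff.mpr fun b _ => ?_
  obtain ⟨γ, hγ⟩ := key (algebraMap B C b)
  have hb : b = ∑ i, (γ i : B) * s (c i) := by
    have := congrArg s hγ
    rw [map_sum] at this
    simp only [map_smul, smul_eq_mul] at this
    rw [this, Algebra.algebraMap_eq_smul_one, map_smul, hs, smul_eq_mul, mul_one]
  rw [hb]
  exact Subalgebra.sum_mem _ fun i _ =>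
    mul_mem (γ i).2 (Algebra.subset_adjoin (Or.inr ⟨i, rfl⟩))

end Groth.Agent.Lib.SmoothDesc.Ring
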